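import Mathlib

/-!
Element orders of alternating groups through cycle types.
-/

set_option autoImplicit false

namespace Cfsg.Agent.Lib.AltOrders

open Equiv Equiv.Perm

theorem even_of_mem_alternating {n : ℕ} {σ : Equiv.Perm (Fin n)} (h : σ ∈ alternatingGroup (Fin n)) :
    Even (σ.cycleType.sum + Multiset.card σ.cycleType) := by
  rw [Equiv.Perm.mem_alternatingGroup, sign_of_cycleType] at h
  by_contra hodd
  rw [(Nat.not_even_iff_odd.mp hodd).neg_one_pow] at h
  exact absurd h (by decide)

/-- A multiset of parts at least two with sum at most `n` and even parity is a cycle type in `A_n`. -/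
theorem exists_orderOf_eq {n : ℕ} (m : Multiset ℕ) (hsum : m.sum ≤ n) (h2 : ∀ a ∈ m, 2 ≤ a)
    (heven : Even (m.sum + Multiset.card m)) : ∃ g : alternatingGroup (Fin n), orderOf g = m.lcm := by
  obtain ⟨σ, hσ⟩ := (exists_with_cycleType_iff (Fin n)).mpr ⟨by simpa using hsum, h2⟩
  refine ⟨⟨σ, ?_⟩, ?_⟩
  · rw [Equiv.Perm.mem_alternatingGroup, sign_of_cycleType, hσ]
    exact heven.neg_one_pow
  · rw [← Subgroup.orderOf_coe, ← lcm_cycleType, hσ]

/-- The cycle type of an element of `A_n`. -/
theorem cycleType_spec {n : ℕ} (g : alternatingGroup (Fin n)) :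
    orderOf g = (g : Equiv.Perm (Fin n)).cycleType.lcm ∧ (g : Equiv.Perm (Fin n)).cycleType.sum ≤ n ∧
      (∀ a ∈ (g : Equiv.Perm (Fin n)).cycleType, 2 ≤ a) ∧
      Even ((g : Equiv.Perm (Fin n)).cycleType.sum + Multiset.card (g : Equiv.Perm (Fin n)).cycleType) :=
  ⟨by rw [← Subgroup.orderOf_coe, lcm_cycleType], by simpa using sum_cycleType_le (g : Equiv.Perm (Fin n)),
    fun _ h => two_le_of_mem_cycleType h, even_of_mem_alternating g.2⟩

/-- A prime dividing the least common multiple of a multiset divides one of its members. -/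
theorem exists_mem_dvd_of_dvd_lcm {p : ℕ} (hp : p.Prime) {m : Multiset ℕ} (h : p ∣ m.lcm) : ∃ a ∈ m, p ∣ a := by
  induction m using Multiset.induction with
  | empty => simp [hp.ne_one] at h
  | cons a s ih =>
    rw [Multiset.lcm_cons] at h
    rcases (Nat.Prime.dvd_mul hp).mp (h.trans (Nat.lcm_dvd_mul a s.lcm)) with h | h
    · exact ⟨a, Multiset.mem_cons_self a s, h⟩
    · obtain ⟨b, hb, hpb⟩ := ih h
      exact ⟨b, Multiset.mem_cons_of_mem hb, hpb⟩

/-- The parity of sum plus cardinality, read off by splitting off one member. -/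
theorem add_le_sum {m : Multiset ℕ} {a b : ℕ} (ha : a ∈ m) (hb : b ∈ m.erase a) : a + b ≤ m.sum := by
  rw [← Multiset.cons_erase ha, Multiset.sum_cons]
  exact Nat.add_le_add_left (Multiset.le_sum_of_mem hb) a

end Cfsg.Agent.Lib.AltOrders
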